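import Cfsg.Agent.Spor.J3a.L.D0

set_option autoImplicit false
set_option maxRecDepth 100000000
set_option Elab.async false

namespace Cfsg.Agent.Spor.J3a.L

theorem uok4 : Net.okb 15 un4 = true := by decide +kernel

theorem rel3 : U.rel 15 [9, 5, 3, 6, 3, 6, 4, 4] 0 15 = true := by decide +kernel

theorem rel4 : U.rel 15 [10, 1, 9, 1] 0 15 = true := by decide +kernel

theorem rel5 : U.rel 15 [9, 4, 9, 3] 0 15 = true := by decide +kernel

theorem rel6 : U.rel 15 [10, 6, 9, 5] 0 15 = true := by decide +kernel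

theorem gr8 : sub M7 (U.growI W1 [3, 3, 1, 0, 1, 2, 3, 3, 2, 1, 0, 1, 2, 3, 3, 2, 1, 0, 1, 2, 3, 3, 2, 1, 0, 1, 2, 3] (Nat.shiftLeft 1 0)) = true := by decide +kernel

theorem cl10 : band (U.closedW W1 M7) (sub (Nat.shiftLeft 1 0) M7) = true := by decide +kernel

theorem sz11 : sizeOk 15 M7 23256 = true := by decide +kernel

theorem fx13 : U.closedW W2 (Nat.shiftLeft 1 0) = true := by decide +kernel

theorem gr15 : sub M14 (U.growI W2 [0, 1, 2, 2, 1, 0, 1, 2, 2, 1, 0, 1, 2, 2, 1, 0, 1, 2] (Nat.shiftLeft 1 285)) = true := by decide +kernel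

theorem cl17 : band (U.closedW W2 M14) (sub (Nat.shiftLeft 1 285) M14) = true := by decide +kernel

theorem sz18 : sizeOk 15 M14 2160 = true := by decide +kernel

end Cfsg.Agent.Spor.J3a.L
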