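import Cfsg.Agent.Spor.Prim
import Cfsg.Agent.Spor.J3a.Main
import Cfsg.Agent.Spor.J3a.L.C0
import Cfsg.Agent.Spor.TT2

set_option autoImplicit false
set_option maxRecDepth 100000000
set_option Elab.async false

namespace Cfsg.Agent.Spor.J3a.L

theorem hU : U.Ok 15 := U.ok_of 15 (show AllP (fun n => Net.okb 15 n = true) [n0, n1, n2, n3, un4] from AllP.cons ok0 (AllP.cons ok1 (AllP.cons ok2 (AllP.cons ok3 (AllP.cons uok4 (AllP.nil))))))

theorem hfP : ∀ j < 4, U.fP [1, 3, 5, 7] j = fP j := by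
  intro j hj
  interval_cases j <;> rfl
theorem eG : gsub 4 fP = U.lsub W1 := (gsub_congr hfP).symm.trans (lsub_eq_gsub U [1, 3, 5, 7])
theorem upz1 : ev (atm 4 fP) [0] = U.τ 1 := pz1
theorem upz3 : ev (atm 4 fP) [2] = U.τ 3 := pz2
theorem upz5 : ev (atm 4 fP) [4] = U.τ 5 := pz3
theorem upz7 : ev (atm 4 fP) [6] = U.τ 7 := pz4
theorem eH : wsub 4 fP BW = U.lsub W2 :=
  lsub_eq_of_all₂ (show List.Forall₂ _ [[0], [2], [4]] [[1], [3], [5]] from List.Forall₂.cons (upz1.trans (one_mul _).symm) (List.Forall₂.cons (upz3.trans (one_mul _).symm) (List.Forall₂.cons (upz5.trans (one_mul _).symm) (List.Forall₂.nil))))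
theorem vpz1 : PZ U (atm 4 fP) EXU 1 := pz1
theorem vpz2 : PZ U (atm 4 fP) EXU 2 := PZ.of_inv hiv vpz1 (by decide +kernel)
theorem vpz3 : PZ U (atm 4 fP) EXU 3 := pz2
theorem vpz4 : PZ U (atm 4 fP) EXU 4 := PZ.of_inv hiv vpz3 (by decide +kernel)
theorem vpz5 : PZ U (atm 4 fP) EXU 5 := pz3
theorem vpz6 : PZ U (atm 4 fP) EXU 6 := PZ.of_inv hiv vpz5 (by decide +kernel)
theorem vpz7 : PZ U (atm 4 fP) EXU 7 := pz4
theorem vpz8 : PZ U (atm 4 fP) EXU 8 := PZ.of_inv hiv vpz7 (by decide +kernel)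
theorem vpz9 : PZ U (atm 4 fP) EXU 9 := PZ.of_def hiv (d := [5, 3, 6, 3, 6, 4, 4]) (AllP.cons vpz5 (AllP.cons vpz3 (AllP.cons vpz6 (AllP.cons vpz3 (AllP.cons vpz6 (AllP.cons vpz4 (AllP.cons vpz4 (AllP.nil)))))))) (hU.one rel3) (by decide +kernel)
theorem vpz10 : PZ U (atm 4 fP) EXU 10 := PZ.of_inv hiv vpz9 (by decide +kernel)
theorem hPZU : AllP (PZ U (atm 4 fP) EXU) LU :=
  show AllP (PZ U (atm 4 fP) EXU) [1, 2, 3, 4, 5, 6, 7, 8, 9, 10] from AllP.cons vpz1 (AllP.cons vpz2 (AllP.cons vpz3 (AllP.cons vpz4 (AllP.cons vpz5 (AllP.cons vpz6 (AllP.cons vpz7 (AllP.cons vpz8 (AllP.cons vpz9 (AllP.cons vpz10 (AllP.nil))))))))))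
theorem hXN : ∀ l ∈ XN, ev (atm 4 fP) l = 1 :=
  relAll_sound hiv (W := [[10, 1, 9, 1], [9, 4, 9, 3], [10, 6, 9, 5]]) (rules := [⟨[10, 1, 9, 1], [], 0, true⟩, ⟨[9, 4, 9, 3], [], 1, true⟩, ⟨[10, 6, 9, 5], [], 2, true⟩]) hPZU (AllP.cons (hU.one rel4) (AllP.cons (hU.one rel5) (AllP.cons (hU.one rel6) (AllP.nil)))) (by decide +kernel)
theorem reach9 : Reach (U.lsub W1) 0 M7 := (Reach.grow hU (Reach.base _ 0) gr8)
theorem orb12 : (orbS (U.lsub W1) 0).ncard = 23256 := reach9.ncard hU cl10 sz11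
theorem orb12e : orbS (U.lsub W1) 0 = {c | Nat.testBit M7 c = true} := reach9.orb hU cl10
theorem reach16 : Reach (U.lsub W2) 285 M14 := (Reach.grow hU (Reach.base _ 285) gr15)
theorem orb19 : (orbS (U.lsub W2) 285).ncard = 2160 := reach16.ncard hU cl17 sz18
theorem orb19e : orbS (U.lsub W2) 285 = {c | Nat.testBit M14 c = true} := reach16.orb hU cl17
theorem lb20 : 2160 ∣ Nat.card (U.lsub W2) := dvd_card_orb orb19
theorem lb : 50232960 ∣ Nat.card (U.lsub W1) :=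
  dvd_card_step (s := 23256) (M := 2160) (B := U.lsub W2) (U.lsub_sub (by decide)) (hU.fixes fx13) orb12 lb20

end Cfsg.Agent.Spor.J3a.L
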